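import Cfsg.Agent.LAE65.Subnormal

/-!
# Wielandt's zipper lemma and subnormality criteria

Namespace `Cfsg.Agent.Subnormal`.

* `exists_unique_maximal_of_not_isSubnormal`: the zipper lemma.
* `isSubnormal_of_join_conj`: if `A` is subnormal in its join with each conjugate by a
  conjugate `g⁻¹ a g` of one of its own elements, then `A` is subnormal.
* `isSubnormal_of_join_all_conj`: Wielandt's criterion.
* `isSubnormal_of_isNilpotent`: every subgroup of a finite nilpotent group is subnormal.
-/

set_option autoImplicit false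

namespace Cfsg.Agent.Subnormal

open Subgroup
open scoped Pointwise

universe u

variable {G : Type u} [Group G]

theorem mem_conj {x y : G} {H : Subgroup G} :
    y ∈ MulAut.conj x • H ↔ x⁻¹ * y * x ∈ H := by
  rw [mem_pointwise_smul_iff_inv_smul_mem, ← map_inv, MulAut.smul_def, MulAut.conj_apply, inv_inv]

theorem card_conj (x : G) (H : Subgroup G) :
    Nat.card ↥(MulAut.conj x • H) = Nat.card H :=
  (Nat.card_congr (equivSMul (MulAut.conj x) H).toEquiv).symm

theorem mem_normalizer_of_conj_le [Finite G] {x : G} {H : Subgroup G}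
    (h : MulAut.conj x • H ≤ H) : x ∈ normalizer (H : Set G) := by
  have he : MulAut.conj x • H = H := eq_of_le_of_card_ge h (card_conj x H).ge
  rw [mem_normalizer_iff]
  intro y
  conv_rhs => rw [← he, mem_conj]
  simp [mul_assoc]

theorem conj_ne_top {x : G} {H : Subgroup G} (h : H ≠ ⊤) : MulAut.conj x • H ≠ ⊤ := by
  intro he
  refine h (eq_top_iff.mpr fun y _ => ?_)
  have h1 : x * y * x⁻¹ ∈ MulAut.conj x • H := by rw [he]; trivial
  simpa [mem_conj, mul_assoc] using h1

/-- A subnormal, non-normal subgroup has a conjugate different from it normalizing it. -/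
theorem exists_conj_le_normalizer [Finite G] {A : Subgroup G} :
    ∀ K : Subgroup G, A ≤ K → (A.subgroupOf K).IsSubnormal →
      K ≤ normalizer (A : Set G) ∨
        ∃ x ∈ K, x ∉ normalizer (A : Set G) ∧ MulAut.conj x • A ≤ normalizer (A : Set G) := by
  intro K
  induction K using WellFoundedLT.induction with
  | ind K ih =>
    intro hAK hsn
    rcases hsn.lt_normal with htop | ⟨N, hN, hAN, hNlt⟩
    · exact Or.inl ((subgroupOf_eq_top.mp htop).trans le_normalizer)
    set N' := N.map K.subtype with hN'
    have hle : N' ≤ K := map_subtype_le N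
    have hlt : N' < K := by
      refine lt_of_le_of_ne hle fun he => hNlt.ne (eq_top_iff.mpr fun y _ => ?_)
      have h1 : (y : G) ∈ N' := he.ge y.2
      obtain ⟨z, hz, hzy⟩ := mem_map.mp h1
      rwa [← K.subtype_injective hzy]
    have hAN' : A ≤ N' := fun a ha => mem_map.mpr ⟨⟨a, hAK ha⟩, hAN ha, rfl⟩
    rcases ih N' hlt hAN' (hsn.comap (inclusion hle)) with h | ⟨x, hx, hx'⟩
    · by_cases hK : K ≤ normalizer (A : Set G)
      · exact Or.inl hK
      obtain ⟨x, hx, hxn⟩ := SetLike.not_le_iff_exists.mp hK
      refine Or.inr ⟨x, hx, hxn, le_trans (fun y hy => ?_) h⟩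
      obtain ⟨z, hz, hze⟩ := mem_map.mp (hAN' (mem_conj.mp hy))
      refine mem_map.mpr ⟨⟨x, hx⟩ * z * ⟨x, hx⟩⁻¹, hN.conj_mem z hz ⟨x, hx⟩, ?_⟩
      rw [coe_subtype] at hze
      simp [hze, mul_assoc]
    · exact Or.inr ⟨x, hle hx, hx'⟩

/-- The zipper lemma: if a non-subnormal subgroup is subnormal in every proper subgroup containing
it, then it lies in a unique maximal subgroup. -/
theorem exists_unique_maximal_of_not_isSubnormal [Finite G] :
    ∀ A : Subgroup G, ¬ A.IsSubnormal →
      (∀ K : Subgroup G, A ≤ K → K ≠ ⊤ → (A.subgroupOf K).IsSubnormal) →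
      ∃ M : Subgroup G, IsCoatom M ∧ ∀ K : Subgroup G, A ≤ K → K ≠ ⊤ → K ≤ M := by
  intro A
  induction A using WellFoundedGT.induction with
  | ind A ih =>
    intro hA h
    have hNA : normalizer (A : Set G) ≠ ⊤ := fun he =>
      hA (normalizer_eq_top_iff.mp he).isSubnormal
    obtain ⟨M, hM, hNM⟩ := (eq_top_or_exists_le_coatom _).resolve_left hNA
    refine ⟨M, hM, fun K hAK hK => ?_⟩
    obtain ⟨L, hL, hKL⟩ := (eq_top_or_exists_le_coatom K).resolve_left hK
    suffices hLM : L = M from hLM ▸ hKL
    have hAL : A ≤ L := hAK.trans hKL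
    rcases exists_conj_le_normalizer L hAL (h L hAL hL.1) with hle | ⟨x, hxL, hxn, hxA⟩
    · by_contra hne
      exact hM.1 (hL.2 _ (lt_of_le_of_ne (hle.trans hNM) hne))
    set S := A ⊔ MulAut.conj x • A with hS
    have hSN : S ≤ normalizer (A : Set G) := sup_le le_normalizer hxA
    have hSL : S ≤ L := by
      refine sup_le hAL fun y hy => ?_
      have h1 := L.mul_mem (L.mul_mem hxL (hAL (mem_conj.mp hy))) (L.inv_mem hxL)
      simpa [mul_assoc] using h1
    have hAS : A < S := by
      refine lt_of_le_of_ne le_sup_left fun he => hxn (mem_normalizer_of_conj_le ?_)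
      calc MulAut.conj x • A ≤ S := le_sup_right
        _ = A := he.symm
    have hSn : ¬ S.IsSubnormal := fun hsn => hA
      (IsSubnormal.step A S hAS.le hsn ((normal_subgroupOf_iff_le_normalizer hAS.le).mpr hSN))
    have hSh : ∀ K : Subgroup G, S ≤ K → K ≠ ⊤ → (S.subgroupOf K).IsSubnormal := by
      intro K hSK hK
      have h1 : A ≤ K := hAS.le.trans hSK
      have h2 : MulAut.conj x • A ≤ K := le_sup_right.trans hSK
      rw [hS, subgroupOf_sup h1 h2]
      refine LAE65.isSubnormal_sup (h K h1 hK) ?_
      have hA' : A ≤ MulAut.conj x⁻¹ • K := fun a ha => by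
        rw [mem_conj, inv_inv]
        exact h2 (mem_conj.mpr (by simpa [mul_assoc] using ha))
      let e : K →* ↥(MulAut.conj x⁻¹ • K) :=
        { toFun := fun y => ⟨x⁻¹ * y * x, mem_conj.mpr (by simp [mul_assoc])⟩
          map_one' := Subtype.ext (by simp)
          map_mul' := fun y z => Subtype.ext (by simp [mul_assoc]) }
      have h3 : (MulAut.conj x • A).subgroupOf K =
          (A.subgroupOf (MulAut.conj x⁻¹ • K)).comap e := by
        ext y
        exact mem_conj
      rw [h3]
      exact (h _ hA' (conj_ne_top hK)).comap e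
    obtain ⟨M', hM', hU⟩ := ih S hAS hSn hSh
    have h1 : M ≤ M' := hU M (hSN.trans hNM) hM.1
    have h2 : L ≤ M' := hU L hSL hL.1
    have h3 : M = M' := le_antisymm h1 (by
      by_contra hne
      exact hM'.1 (hM.2 _ (lt_of_le_not_ge h1 hne)))
    have h4 : L = M' := le_antisymm h2 (by
      by_contra hne
      exact hM'.1 (hL.2 _ (lt_of_le_not_ge h2 hne)))
    rw [h3, h4]

private theorem isSubnormal_of_join_conj_aux : ∀ (n : ℕ) (G : Type u) [Group G] [Finite G]
    (A : Subgroup G), Nat.card G ≤ n →
    (∀ a ∈ A, ∀ g : G, (A.subgroupOf (A ⊔ MulAut.conj (g⁻¹ * a * g) • A)).IsSubnormal) →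
    A.IsSubnormal := by
  intro n
  induction n with
  | zero => intro G _ _ _ hle _; exact absurd hle (by have := Nat.card_pos (α := G); omega)
  | succ n ih =>
    intro G _ _ A hle h
    by_contra hA
    have hprop : ∀ K : Subgroup G, A ≤ K → K ≠ ⊤ → (A.subgroupOf K).IsSubnormal := by
      intro K hAK hK
      have hcard : Nat.card K < Nat.card G :=
        lt_of_le_of_ne (card_le_card_group K) fun he => hK (K.eq_top_of_card_eq he)
      refine ih K _ (by omega) fun a ha g => ?_
      set g' : K := g⁻¹ * a * g with hg'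
      have hmap : (A.subgroupOf K).map K.subtype = A := by
        rw [subgroupOf_map_subtype, inf_eq_left.mpr hAK]
      set J : Subgroup K := A.subgroupOf K ⊔ MulAut.conj g' • A.subgroupOf K with hJ
      have hmem : ∀ y : J, ((y : K) : G) ∈ A ⊔ MulAut.conj (g' : G) • A := by
        intro y
        have h1 : ((y : K) : G) ∈ J.map K.subtype := mem_map_of_mem _ y.2
        have h2 : J.map K.subtype ≤ A ⊔ MulAut.conj (g' : G) • A := by
          rw [hJ, Subgroup.map_sup, hmap]
          refine sup_le_sup_left ?_ A
          rintro _ ⟨z, hz, rfl⟩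
          rw [coe_subtype, mem_conj]
          exact mem_subgroupOf.mp (mem_conj.mp hz)
        exact h2 h1
      let f : J →* ↥(A ⊔ MulAut.conj (g' : G) • A) :=
        (K.subtype.comp J.subtype).codRestrict _ hmem
      have heq : (A.subgroupOf K).subgroupOf J =
          (A.subgroupOf (A ⊔ MulAut.conj (g' : G) • A)).comap f := rfl
      rw [heq]
      refine IsSubnormal.comap f ?_
      have hg'' : (g' : G) = (g : G)⁻¹ * (a : G) * (g : G) := by simp [hg']
      rw [hg'']
      exact h a ha g
    obtain ⟨M, hM, hU⟩ := exists_unique_maximal_of_not_isSubnormal A hA hprop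
    have hAne : A ≠ ⊤ := fun he => hA (he ▸ IsSubnormal.top)
    have hAM : A ≤ M := hU A le_rfl hAne
    have hb : ∀ a ∈ A, ∀ g : G, g⁻¹ * a * g ∈ normalizer (M : Set G) := by
      intro a ha g
      set b := g⁻¹ * a * g with hb
      by_cases htop : A ⊔ MulAut.conj b • A = ⊤
      · exact absurd (IsSubnormal.trans le_sup_left (h a ha g)
          (htop ▸ IsSubnormal.top)) hA
      have h1 : MulAut.conj b • A ≤ M := le_sup_right.trans (hU _ le_sup_left htop)
      have h2 : A ≤ MulAut.conj b⁻¹ • M := fun y hy => by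
        rw [mem_conj, inv_inv]
        exact h1 (mem_conj.mpr (by simpa [mul_assoc] using hy))
      have h3 := mem_normalizer_of_conj_le (hU _ h2 (conj_ne_top hM.1))
      simpa using inv_mem h3
    set N := normalClosure (A : Set G) with hN
    have hNN : N ≤ normalizer (M : Set G) := by
      rw [hN, normalClosure, closure_le]
      intro y hy
      obtain ⟨a, ha, hc⟩ := Group.mem_conjugatesOfSet_iff.mp hy
      obtain ⟨c, rfl⟩ := isConj_iff.mp hc
      simpa using hb a ha c⁻¹
    have hAN : A ≤ N := subset_normalClosure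
    by_cases hNt : N = ⊤
    · have : M.Normal := normalizer_eq_top_iff.mp (eq_top_iff.mpr (hNt.ge.trans hNN))
      exact hM.1 (eq_top_iff.mpr (hNt.ge.trans (normalClosure_le_normal hAM)))
    · exact hA (IsSubnormal.trans hAN (hprop N hAN hNt) normalClosure_normal.isSubnormal)

/-- Subnormality from subnormality in joins with conjugates by conjugates of own elements. -/
theorem isSubnormal_of_join_conj [Finite G] (A : Subgroup G)
    (h : ∀ a ∈ A, ∀ g : G, (A.subgroupOf (A ⊔ MulAut.conj (g⁻¹ * a * g) • A)).IsSubnormal) :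
    A.IsSubnormal :=
  isSubnormal_of_join_conj_aux _ G A le_rfl h

/-- Wielandt's subnormality criterion. -/
theorem isSubnormal_of_join_all_conj [Finite G] (A : Subgroup G)
    (h : ∀ g : G, (A.subgroupOf (A ⊔ MulAut.conj g • A)).IsSubnormal) : A.IsSubnormal :=
  isSubnormal_of_join_conj A fun a _ g => h (g⁻¹ * a * g)

/-- Every subgroup of a finite nilpotent group is subnormal. -/
theorem isSubnormal_of_isNilpotent [Finite G] [Group.IsNilpotent G] :
    ∀ H : Subgroup G, H.IsSubnormal := by
  intro H
  induction H using WellFoundedGT.induction with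
  | ind H ih =>
    rcases eq_or_ne H ⊤ with rfl | hne
    · exact IsSubnormal.top
    · have hlt := Group.normalizerCondition_of_isNilpotent H (lt_top_iff_ne_top.mpr hne)
      exact IsSubnormal.step H _ le_normalizer (ih _ hlt)
        ((normal_subgroupOf_iff_le_normalizer le_normalizer).mpr le_rfl)

end Cfsg.Agent.Subnormal
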